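import Cfsg.Agent.ODD.PX.D4
import Cfsg.Agent.ODD.Hk.Main
import Cfsg.Agent.ODD.AH.Main
import Cfsg.Agent.GAL.Rows

/-!
# GAL, odd `q`: the characters of odd degree of `G₂`, `F₄`, `E₇`, `E₈`, `³D₄` are rational (helper4)

* `OddQ G` : the irreducible characters of odd degree are fixed by all automorphisms of `ℂ`;
* `fix_of_le` : `σ` fixes `lam` and `Wst lam ≤ Rg lam`;
* `oddQ_of_uni` : unimodular Cartan matrices; `oddQ_E7`;
* `oddQ_g2`, `oddQ_f4`, `oddQ_e7`, `oddQ_e8`, `oddQ_d4` : the families.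
-/

set_option autoImplicit false
set_option linter.unusedSectionVars false
set_option maxHeartbeats 400000

namespace Cfsg.Agent.GAL.Ex

open Cfsg Cfsg.Agent.ODD Cfsg.Agent.ODD.PS Cfsg.Agent.ODD.PX Cfsg.Agent.ODD.Red Cfsg.Agent.TAB.Use
open CoxeterSystem Cfsg.Agent.ChevalleyStructure.CoxeterGeom Cfsg.Agent.Tits.Roots Cfsg.Agent.Nodes.Reps
  Cfsg.Agent.Nodes.BNOf Cfsg.Agent.Nodes.Bruhat Cfsg.Agent.H684.OQ Cfsg.Agent.H381.OQ

theorem hMain : AH.Main := AH.main Hk.ho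

/-- the irreducible characters of odd degree are rational -/
def OddQ (G : Type) [Group G] : Prop :=
  ∀ χ : G → ℂ, IsIrrCharacter G χ → Odd (charDegree χ) → ∀ σ : ℂ ≃+* ℂ, Fix σ χ

theorem OddQ.oddSig {G : Type} [Group G] (h : OddQ G) : OddSig G := fun χ h1 h2 σ _ => h χ h1 h2 σ

theorem OddQ.fg {G : Type} [Group G] (h : OddQ G) : FG G := fg_of_oddSig h.oddSig

theorem OddQ.congr {S T : Type} [Group S] [Group T] (e : S ≃* T) (h : OddQ T) : OddQ S := by
  intro χ h1 h2 σ s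
  have h3 := oddIrr_comp (f := e.symm.toMonoidHom) e.symm.surjective (θ := χ) ⟨h1, odd_iff'.1 h2⟩
  have h4 := h _ h3.1 (odd_iff'.2 h3.2) σ (e s)
  simpa using h4

section gen

variable {I W Y : Type} [Fintype I] [DecidableEq I] [Group W] [Finite W] [Group Y] [Finite Y]
  {M : CoxeterMatrix I} {cs : CoxeterSystem M W} {A : I → I → ℤ} {h : IsCartan M A} {p : ℕ} {T : Subgroup Y}
  {n : I → Y} {X : (I → ℤ) → Subgroup Y} (R : RGD cs h p T n X)

include R in
/-- `σ` fixes `lam` and the stabiliser of `lam` is generated by the good reflections -/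
theorem fix_of_le (hG : GG cs h T X = ⊤) (hc : ∀ a ∈ T, ∀ b ∈ T, a * b = b * a) {σ : ℂ ≃+* ℂ} {lam : ↥T →* ℂˣ}
    (hl : ∀ t, σ (lam t : ℂˣ) = (lam t : ℂˣ)) (hle : Wst R lam ≤ Rg R lam) {χ : Y → ℂ} (hχ : IsIrrCharacter Y χ)
    (hodd : ∃ m : ℕ, Odd m ∧ mB R lam χ = m) : Fix σ χ := fun y =>
  (fix_of_mB R hMain hG hc (St.five cs h) (aut_refl R hl) (fun _ hw => hle (mul_mem hw hw)) (Or.inl hle) hχ hodd y).symm

omit [Group W] [Finite W] [Group Y] [Finite Y] in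
/-- an integral multiple of the inverse of the Cartan matrix -/
theorem exists_of_inv (d : ℕ) (C : I → I → ℤ) (hC : ∀ k j, ∑ i, C k i * A i j = if k = j then (d : ℤ) else 0)
    (y : St.Fm I) : ∃ β, (d : ℤ) • y = St.wt A β := by
  refine ⟨fun i => ∑ k, y (sr k) * C k i, ext_sr' fun j => ?_⟩
  rw [St.wt_def, AddMonoidHom.finsetSum_apply]
  simp only [AddMonoidHom.smul_apply, St.pr_sr, smul_eq_mul, Finset.sum_mul, mul_assoc]
  rw [Finset.sum_comm]
  simp only [← Finset.mul_sum, hC, mul_ite, mul_zero, Finset.sum_ite_eq', Finset.mem_univ, if_true]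
  exact mul_comm _ _

omit [Fintype I] [Group W] [Finite W] [Group Y] [Finite Y] in
/-- simply laced diagrams -/
theorem eq_of_sl (h : IsCartan M A) (hs : ∀ i j, M i j ≤ 3) (i j : I) :
    A i j = if i = j then 2 else if M i j = 3 then -1 else 0 := by
  by_cases hij : i = j
  · rw [if_pos hij, hij, h.diag]
  · rw [if_neg hij]
    rcases h.rel i j hij with h1 | h1 | h1 | h1
    · rw [if_neg (by omega), h1.2.1]
    · rw [if_pos h1.1, h1.2.1]
    all_goals
      have := hs i j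
      omega

end gen

/-- unimodular Cartan matrices -/
theorem oddQ_of_uni {p : ℕ} {I : Type} [Fintype I] [DecidableEq I] {M : CoxeterMatrix I} {G : Type} [Group G] [Finite G]
    (h : HasCor p M G) (hu : ∀ A, IsCartan M A → ∀ y : St.Fm I, ∃ β, ((1 : ℕ) : ℤ) • y = St.wt A β) : OddQ G := by
  obtain ⟨_, A, A', h, h', T, n, g, X, S, C, hq⟩ := h
  intro χ hχ hodd σ
  obtain ⟨lam, h1, h2⟩ := exists_lam S.rgd S.top S.comm S.nofix hχ hodd
  refine fix_of_le S.rgd S.top S.comm (fun t => fix_of_sq (hq lam h2 t)) (fun w hw => ?_) hχ h1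
  have := C.pow_mem two_pos (hq lam h2) hw (hu A' h')
  rwa [pow_one] at this

theorem uni_G2 (A : Fin 2 → Fin 2 → ℤ) (h : IsCartan CoxeterMatrix.G₂ A) (y : St.Fm (Fin 2)) :
    ∃ β, ((1 : ℕ) : ℤ) • y = St.wt A β := by
  have h0 := h.diag 0
  have h1 := h.diag 1
  rcases h.rel 0 1 (by decide) with h2 | h2 | h2 | ⟨-, h2 | h2⟩
  · exact absurd h2.1 (by decide)
  · exact absurd h2.1 (by decide)
  · exact absurd h2.1 (by decide)
  · refine exists_of_inv 1 ![![2, 1], ![3, 2]] (fun k j => ?_) y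
    fin_cases k <;> fin_cases j <;> simp [h0, h1, h2.1, h2.2]
  · refine exists_of_inv 1 ![![2, 3], ![1, 2]] (fun k j => ?_) y
    fin_cases k <;> fin_cases j <;> simp [h0, h1, h2.1, h2.2]

theorem uni_F4 (A : Fin 4 → Fin 4 → ℤ) (h : IsCartan CoxeterMatrix.F₄ A) (y : St.Fm (Fin 4)) :
    ∃ β, ((1 : ℕ) : ℤ) • y = St.wt A β := by
  have z : ∀ i j, CoxeterMatrix.F₄ i j = 2 → A i j = 0 := fun i j hij => by
    rcases h.rel i j (by rintro rfl; simp at hij) with h2 | h2 | h2 | h2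
    · exact h2.2.1
    all_goals omega
  have t : ∀ i j, CoxeterMatrix.F₄ i j = 3 → A i j = -1 := fun i j hij => by
    rcases h.rel i j (by rintro rfl; simp at hij) with h2 | h2 | h2 | h2
    · omega
    · exact h2.2.1
    all_goals omega
  have key : ∀ a b : ℤ, A 1 2 = a → A 2 1 = b →
      A = ![![2, -1, 0, 0], ![-1, 2, a, 0], ![0, b, 2, -1], ![0, 0, -1, 2]] := fun a b ha hb => by
    funext i j
    fin_cases i <;> fin_cases j <;>
      first | exact h.diag _ | exact ha | exact hb | exact z _ _ (by decide) | exact t _ _ (by decide)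
  rcases h.rel 1 2 (by decide) with h2 | h2 | ⟨-, h2 | h2⟩ | h2
  · exact absurd h2.1 (by decide)
  · exact absurd h2.1 (by decide)
  · rw [key _ _ h2.1 h2.2]
    exact exists_of_inv 1 ![![2, 3, 2, 1], ![3, 6, 4, 2], ![4, 8, 6, 3], ![2, 4, 3, 2]] (by decide) y
  · rw [key _ _ h2.1 h2.2]
    exact exists_of_inv 1 ![![2, 3, 4, 2], ![3, 6, 8, 4], ![2, 4, 6, 3], ![1, 2, 3, 2]] (by decide) y
  · exact absurd h2.1 (by decide)

theorem uni_E8 (A : Fin 8 → Fin 8 → ℤ) (h : IsCartan CoxeterMatrix.E₈ A) (y : St.Fm (Fin 8)) :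
    ∃ β, ((1 : ℕ) : ℤ) • y = St.wt A β := by
  have e : A = fun i j => if i = j then 2 else if CoxeterMatrix.E₈ i j = 3 then -1 else 0 :=
    funext fun i => funext fun j => eq_of_sl h (fun i j => by fin_cases i <;> fin_cases j <;> decide) i j
  rw [e]
  exact exists_of_inv 1 ![![4, 5, 7, 10, 8, 6, 4, 2], ![5, 8, 10, 15, 12, 9, 6, 3], ![7, 10, 14, 20, 16, 12, 8, 4],
    ![10, 15, 20, 30, 24, 18, 12, 6], ![8, 12, 16, 24, 20, 15, 10, 5], ![6, 9, 12, 18, 15, 12, 8, 4],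
    ![4, 6, 8, 12, 10, 8, 6, 3], ![2, 3, 4, 6, 5, 4, 3, 2]] (by decide) y

/-! ### `E₇` -/

/-- a subgroup of odd index contains a conjugate of a set of commuting involutions -/
theorem exists_conj_mem {W : Type} [Group W] [Finite W] {H : Subgroup W} (hH : Odd H.index) (s : Set W)
    (hc : ∀ a ∈ s, ∀ b ∈ s, a * b = b * a) (h2 : ∀ a ∈ s, a * a = 1) : ∃ v : W, ∀ a ∈ s, v * a * v⁻¹ ∈ H := by
  have := fact2
  have hE : IsPGroup 2 (Subgroup.closure s) := by
    have hcomm := Subgroup.isMulCommutative_closure (k := s) hc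
    have key : ∀ x ∈ Subgroup.closure s, x * x = 1 := by
      intro x hx
      induction hx using Subgroup.closure_induction with
      | mem x hx => exact h2 x hx
      | one => exact mul_one 1
      | mul a b ha hb ha' hb' =>
        have e : a * b = b * a := congrArg Subtype.val (hcomm.is_comm.comm ⟨a, ha⟩ ⟨b, hb⟩)
        calc a * b * (a * b) = a * (b * a) * b := by group
          _ = a * a * (b * b) := by rw [← e]; group
          _ = 1 := by rw [ha', hb', mul_one]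
      | inv a _ ha' => rw [← mul_inv_rev, ha', inv_one]
    intro x
    exact ⟨1, Subtype.ext (by rw [pow_one, pow_two]; exact key x x.2)⟩
  obtain ⟨c, hc⟩ := hE.nonempty_fixed_point_of_prime_not_dvd_card (W ⧸ H) (odd_iff'.1 hH)
  obtain ⟨v, rfl⟩ := QuotientGroup.mk_surjective c
  refine ⟨v⁻¹, fun a ha => ?_⟩
  have h3 : ((a * v : W) : W ⧸ H) = v := hc ⟨a, Subgroup.subset_closure ha⟩
  have h4 := QuotientGroup.eq.1 h3.symm
  rwa [inv_inv, mul_assoc]

section sym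

variable {I W : Type} [Fintype I] [DecidableEq I] [Group W] {M : CoxeterMatrix I} (cs : CoxeterSystem M W)
  {A : I → I → ℤ} (h : IsCartan M A)

theorem wt_sr_eq (hs : ∀ i j, A i j = A j i) (β : I → ℤ) (i : I) : St.wt A β (sr i) = pairing A i β := by
  rw [St.wt_def, AddMonoidHom.finsetSum_apply]
  simp only [AddMonoidHom.smul_apply, St.pr_sr, smul_eq_mul, pairing]
  exact Finset.sum_congr rfl fun j _ => by rw [hs, mul_comm]

theorem ac_wt (hs : ∀ i j, A i j = A j i) (w : W) (β : I → ℤ) :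
    St.ac cs h w (St.wt A β) = St.wt A (rep cs h w⁻¹ β) := by
  induction w using cs.simple_induction_right generalizing β with
  | one => rw [St.ac_one, inv_one, map_one, Module.End.one_apply]
  | mul_simple_right w i ih =>
    rw [St.ac_mul, ih, St.ac_simple, mul_inv_rev, rep_mul_apply, cs.inv_simple, rep_simple_eq, map_sub, map_zsmul,
      St.wt_sr, wt_sr_eq hs]

theorem wt_apply (β a : I → ℤ) : St.wt A β a = ∑ j, a j * St.wt A β (sr j) := by
  have e : a = ∑ i, a i • sr i := by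
    funext k
    simp [sr, Finset.sum_apply, Pi.single_apply]
  conv_lhs => rw [e, map_sum]
  exact Finset.sum_congr rfl fun j _ => by rw [map_zsmul, smul_eq_mul]

theorem wt_comm (hs : ∀ i j, A i j = A j i) (β γ : I → ℤ) : St.wt A β γ = St.wt A γ β := by
  rw [wt_apply, St.wt_def γ, AddMonoidHom.finsetSum_apply]
  exact Finset.sum_congr rfl fun j _ => by
    rw [wt_sr_eq hs, AddMonoidHom.smul_apply, St.pr_apply, smul_eq_mul]

/-- a vector which is fixed modulo `2` -/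
theorem rep_mod (ε : I → ℤ) (hε : ∀ i, 2 ∣ pairing A i ε) (w : W) : ∃ γ, rep cs h w ε = ε + (2 : ℤ) • γ := by
  induction w using cs.simple_induction_left with
  | one => exact ⟨0, by rw [map_one, Module.End.one_apply, smul_zero, add_zero]⟩
  | mul_simple_left w i ih =>
    obtain ⟨γ, hγ⟩ := ih
    obtain ⟨c, hc⟩ := hε i
    refine ⟨rep cs h (cs.simple i) γ - c • sr i, ?_⟩
    rw [rep_mul_apply, hγ, map_add, map_zsmul, rep_simple_eq cs h i ε, hc, mul_smul, smul_sub]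
    abel

end sym

/-- the Cartan matrix of `E₇` -/
def c7 : Fin 7 → Fin 7 → ℤ := fun i j => if i = j then 2 else if CoxeterMatrix.E₇ i j = 3 then -1 else 0

theorem pairing_c7 (β : Fin 7 → ℤ) : pairing c7 0 β = 2 * β 0 - β 2 ∧ pairing c7 1 β = 2 * β 1 - β 3 ∧
    pairing c7 2 β = 2 * β 2 - β 0 - β 3 ∧ pairing c7 3 β = 2 * β 3 - β 1 - β 2 - β 4 ∧
    pairing c7 4 β = 2 * β 4 - β 3 - β 5 ∧ pairing c7 5 β = 2 * β 5 - β 4 - β 6 ∧
    pairing c7 6 β = 2 * β 6 - β 5 := by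
  have e : c7 = ![![2, 0, -1, 0, 0, 0, 0], ![0, 2, 0, -1, 0, 0, 0], ![-1, 0, 2, -1, 0, 0, 0], ![0, -1, -1, 2, -1, 0, 0],
    ![0, 0, 0, -1, 2, -1, 0], ![0, 0, 0, 0, -1, 2, -1], ![0, 0, 0, 0, 0, -1, 2]] := by decide
  rw [e]
  simp only [pairing, Fin.sum_univ_seven]
  simp
  omega

theorem c7_symm : ∀ i j, c7 i j = c7 j i := by decide

theorem arith7 {a0 a1 a2 a3 a4 a5 a6 y0 y1 y2 y3 y4 y5 y6 : ℤ} (p0 : 2 * y0 = 2 * a0 - a2) (p1 : 2 * y1 = 2 * a1 - a3)
    (p2 : 2 * y2 = 2 * a2 - a0 - a3) (p3 : 2 * y3 = 2 * a3 - a1 - a2 - a4) (p4 : 2 * y4 = 2 * a4 - a3 - a5)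
    (p5 : 2 * y5 = 2 * a5 - a4 - a6) (p6 : 2 * y6 = 2 * a6 - a5)
    (h3 : 2 ∣ a0 * y0 + a1 * y1 + a2 * y2 + a3 * y3 + a4 * y4 + a5 * y5 + a6 * y6) :
    2 ∣ a0 ∧ 2 ∣ a1 ∧ 2 ∣ a2 ∧ 2 ∣ a3 ∧ 2 ∣ a4 ∧ 2 ∣ a5 ∧ 2 ∣ a6 := by
  obtain ⟨d2, rfl⟩ : ∃ d, a2 = 2 * d := ⟨a0 - y0, by linarith⟩
  obtain ⟨d3, rfl⟩ : ∃ d, a3 = 2 * d := ⟨a1 - y1, by linarith⟩
  obtain ⟨d5, rfl⟩ : ∃ d, a5 = 2 * d := ⟨a6 - y6, by linarith⟩
  obtain ⟨d0, rfl⟩ : ∃ d, a0 = 2 * d := ⟨2 * d2 - d3 - y2, by linarith⟩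
  obtain ⟨d4, rfl⟩ : ∃ d, a4 = a1 + 2 * d := ⟨2 * d3 - d2 - a1 - y3, by linarith⟩
  obtain ⟨d6, rfl⟩ : ∃ d, a6 = a1 + 2 * d := ⟨2 * d5 - d4 - a1 - y5, by linarith⟩
  have e1 : 2 ∣ a1 := by
    rcases Int.even_or_odd' a1 with ⟨d1, rfl | rfl⟩
    · exact Dvd.intro _ rfl
    · obtain ⟨c, hc⟩ := h3
      obtain ⟨z, hz⟩ : ∃ z, y1 + y4 + y6 = 2 * z := ⟨c - (d0 * y0 + d1 * y1 + d2 * y2 + d3 * y3 +
          (d4 + d1) * y4 + d5 * y5 + (d6 + d1) * y6), by linear_combination hc⟩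
      clear hc
      omega
  clear h3
  omega

/-- **`E₇`**: the stabiliser modulo `2` of a weight in the root lattice -/
theorem mem_E7 {W : Type} [Group W] [Finite W] (cs : CoxeterSystem CoxeterMatrix.E₇ W)
    (h : IsCartan CoxeterMatrix.E₇ c7) {x : St.Fm (Fin 7)} (hx : 2 ∣ x (sr 1) + x (sr 4) + x (sr 6)) {H : Subgroup W}
    (hH : ∀ w i, 2 ∣ x (St.rt cs h w i) → w * cs.simple i * w⁻¹ ∈ H) {g : W}
    (hg : ∀ a, 2 ∣ x (rep cs h g a) - x a) : g ∈ H := by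
  -- a vector of the root lattice with the same values modulo `2`
  let β : Fin 7 → ℤ := ![x (sr 2) + x (sr 1), x (sr 3) + x (sr 0) + x (sr 5), x (sr 0), x (sr 1), x (sr 5), x (sr 6), 0]
  have hβ : ∀ a, 2 ∣ St.wt c7 β a - x a := by
    intro a
    have e : a = ∑ i, a i • sr i := by
      funext k
      simp [sr, Finset.sum_apply, Pi.single_apply]
    rw [e, map_sum, map_sum, ← Finset.sum_sub_distrib]
    refine Finset.dvd_sum fun i _ => ?_
    rw [map_zsmul, map_zsmul, ← smul_sub, wt_sr_eq c7_symm]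
    refine Dvd.dvd.mul_left ?_ _
    obtain ⟨p0, p1, p2, p3, p4, p5, p6⟩ := pairing_c7 β
    fin_cases i <;> simp only [Fin.zero_eta, Fin.mk_one, Fin.reduceFinMk, p0, p1, p2, p3, p4, p5, p6] <;>
      simp [β] <;> omega
  obtain ⟨y, hy⟩ := St.exists_div cs h (x := St.wt c7 β) (m := 2) two_pos (g := g) fun a => by
    have h1 := hβ (rep cs h g a)
    have h2 := hβ a
    have h3 := hg a
    omega
  obtain ⟨δ, hδ⟩ : ∃ δ, rep cs h g⁻¹ β = β + δ := ⟨_, (add_sub_cancel β _).symm⟩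
  have h1 : St.wt c7 δ = (2 : ℤ) • y := by
    rw [ac_wt cs h c7_symm, hδ, map_add] at hy
    exact add_left_cancel hy
  have h2 : St.wt c7 (β + δ) (β + δ) = St.wt c7 β β := by
    rw [← hδ, ← ac_wt cs h c7_symm, St.ac_apply, rep_apply_inv]
  have h3 : 2 ∣ y δ := by
    rw [map_add, map_add, AddMonoidHom.add_apply, AddMonoidHom.add_apply, wt_comm c7_symm β δ, h1] at h2
    simp only [AddMonoidHom.smul_apply, smul_eq_mul] at h2
    omega
  have h4 : ∀ i, pairing c7 i δ = 2 * y (sr i) := fun i => by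
    rw [← wt_sr_eq c7_symm, h1, AddMonoidHom.smul_apply, smul_eq_mul]
  have h5 : y δ = ∑ j, δ j * y (sr j) := by
    have h6 := wt_apply (A := c7) δ δ
    simp only [h1, AddMonoidHom.smul_apply, smul_eq_mul, mul_left_comm _ (2 : ℤ), ← Finset.mul_sum] at h6
    omega
  obtain ⟨p0, p1, p2, p3, p4, p5, p6⟩ := pairing_c7 δ
  rw [h4] at p0 p1 p2 p3 p4 p5 p6
  rw [h5, Fin.sum_univ_seven] at h3
  obtain ⟨e0, e1, e2, e3, e4, e5, e6⟩ := arith7 p0 p1 p2 p3 p4 p5 p6 h3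
  have h6 : ∀ i, 2 ∣ δ i := fun i => by
    fin_cases i
    exacts [e0, e1, e2, e3, e4, e5, e6]
  choose η hη using h6
  refine St.mem_of_wt cs h (x := St.wt c7 β) (m := 2) two_pos (fun w i hw => hH w i ?_) (β := η) ?_
  · have := hβ (St.rt cs h w i)
    omega
  · rw [hy, ← h1, ← map_zsmul]
    congr 2
    funext i
    exact hη i

theorem oddQ_E7 {p : ℕ} {G : Type} [Group G] [Finite G] (h : HasCor p CoxeterMatrix.E₇ G) : OddQ G := by
  obtain ⟨_, A, A', h, h', T, n, g, X, S, C, hq⟩ := h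
  obtain rfl : A' = c7 := funext fun i => funext fun j => eq_of_sl h' (fun i j => by fin_cases i <;> fin_cases j <;> decide) i j
  intro χ hχ hodd σ
  obtain ⟨lam, h1, h2⟩ := exists_lam S.rgd S.top S.comm S.nofix hχ hodd
  refine fix_of_le S.rgd S.top S.comm (fun t => fix_of_sq (hq lam h2 t)) (fun w hw => ?_) hχ h1
  obtain ⟨x, -, -, -, hx⟩ := C.exists_form two_pos (hq lam h2)
  have hst : ∀ w ∈ Wst S.rgd lam, ∀ a, 2 ∣ x (rep CoxeterMatrix.E₇.toCoxeterSystem h' w a) - x a := fun w hw a => by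
    rw [← map_sub]
    refine (hx _).1 ?_
    rw [map_sub, C.ev_fix (hq lam h2) hw, sub_self]
  refine mem_E7 _ h' (x := x) ?_ (fun v i hv => C.refl_mem (hq lam h2) ((hx _).2 hv)) (hst w hw)
  set cs := CoxeterMatrix.E₇.toCoxeterSystem
  have hcm : ∀ i j, CoxeterMatrix.E₇ i j = 2 → cs.simple i * cs.simple j = cs.simple j * cs.simple i := fun i j hij => by
    have h3 := cs.simple_mul_simple_pow i j
    rw [hij, pow_two] at h3
    rw [eq_inv_of_mul_eq_one_left h3, mul_inv_rev, cs.inv_simple, cs.inv_simple]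
  obtain ⟨v, hv⟩ := exists_conj_mem h2 {cs.simple 1, cs.simple 4, cs.simple 6} (by
    rintro a (rfl | rfl | rfl) b (rfl | rfl | rfl) <;> first | rfl | exact hcm _ _ (by decide)) (by
    rintro a (rfl | rfl | rfl) <;> exact cs.simple_mul_simple_self _)
  have key : ∀ i j, c7 i j = -1 → v * cs.simple i * v⁻¹ ∈ Wst S.rgd lam → 2 ∣ x (rep cs h' v (sr i)) := fun i j hij hi => by
    have h3 := hst _ hi (rep cs h' v (sr j))
    rw [St.rep_rf, St.co, St.ac_apply, rep_inv_apply, St.pr_sr, hij, map_sub, map_zsmul] at h3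
    simp only [smul_eq_mul, St.rt] at h3
    obtain ⟨c, hc⟩ := h3
    exact ⟨c, by linarith⟩
  have k1 := key 1 3 (by decide) (hv _ (by simp))
  have k4 := key 4 3 (by decide) (hv _ (by simp))
  have k6 := key 6 5 (by decide) (hv _ (by simp))
  obtain ⟨γ, hγ⟩ := rep_mod cs h' (sr 1 + sr 4 + sr 6) (by decide) v
  have h3 := congrArg x hγ
  simp only [map_add, map_zsmul, smul_eq_mul] at h3
  omega

/-! ### the families -/

theorem oddQ_g2 {S : Type} [Group S] (h : ChevO Lie.chevG2 S) : OddQ S := by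
  obtain ⟨F, _, _, hF, ⟨e⟩⟩ := h
  obtain ⟨p, _, -, -, h2⟩ := exists_char F hF
  exact (oddQ_of_uni (hasCor_G2 F p h2) uni_G2).congr e

theorem oddQ_f4 {S : Type} [Group S] (h : ChevO Lie.chevF4 S) : OddQ S := by
  obtain ⟨F, _, _, hF, ⟨e⟩⟩ := h
  obtain ⟨p, _, -, -, h2⟩ := exists_char F hF
  exact (oddQ_of_uni (hasCor_F4 F p h2) uni_F4).congr e

theorem oddQ_e7 {S : Type} [Group S] (h : ChevO Lie.chevE7 S) : OddQ S := by
  obtain ⟨F, _, _, hF, ⟨e⟩⟩ := h
  obtain ⟨p, _, -, -, h2⟩ := exists_char F hF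
  exact (oddQ_E7 (hasCor_E7 F p h2)).congr e

theorem oddQ_e8 {S : Type} [Group S] (h : ChevO Lie.chevE8 S) : OddQ S := by
  obtain ⟨F, _, _, hF, ⟨e⟩⟩ := h
  obtain ⟨p, _, -, -, h2⟩ := exists_char F hF
  exact (oddQ_of_uni (hasCor_E8 F p h2) uni_E8).congr e

theorem oddQ_d4 {S : Type} [Group S] (h : TwD4O S) : OddQ S := by
  obtain ⟨K, _, _, q, hK, hq, hc, ⟨e⟩⟩ := h
  obtain ⟨p, _, -, -, h2⟩ := exists_char K hK
  have hqo : Odd q := by
    rw [hc] at hK
    exact (Nat.odd_pow_iff (by norm_num)).1 hK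
  exact (oddQ_of_uni (hasCor_twD4 hq hc p h2 hqo) uni_G2).congr e

end Cfsg.Agent.GAL.Ex
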