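import Cfsg.Agent.GAL.Ex.Sig
import Cfsg.Agent.ODD.Pos.Tor
import Cfsg.Agent.ODD.Cov.E6
import Cfsg.Agent.GAL.Odd.Gen

/-!
# GAL, odd `q`: the stabilisers of the characters of the torus of `E₆(q)` and `²E₆(q)` (helper4)

* `wst_le_three` : coroot data, `3 P ≤ Q`, `lam` of `2`-power order : `Wst lam ≤ Rg lam`;
* `Gn R c g` : `n i * g j * (n i)⁻¹ = g j * g i ^ c i j`; `Gn.vl_word`;
* `wst_le_tw` : the same for the exponents `twc q` and a stabiliser of odd index;
* `fg_g2`, `fg_f4`, `fg_e6`, `fg_e7`, `fg_e8`, `fg_tw`, `fg_d4` : `FG S` for the seven families.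
-/

set_option autoImplicit false
set_option linter.unusedSectionVars false
set_option maxHeartbeats 400000

namespace Cfsg.Agent.GAL.Ex

open Cfsg Cfsg.Agent.ODD Cfsg.Agent.ODD.PS Cfsg.Agent.ODD.Pos Cfsg.Agent.ODD.Cv
open CoxeterSystem Cfsg.Agent.ChevalleyStructure.CoxeterGeom Cfsg.Agent.Tits.Roots Cfsg.Agent.Nodes.Reps
  Cfsg.Agent.Nodes.BNOf Cfsg.Agent.Nodes.Bruhat Cfsg.Agent.H684.OQ Cfsg.Agent.H381.OQ

section gen

variable {I W Y : Type} [Fintype I] [DecidableEq I] [Group W] [Finite W] [Group Y] [Finite Y]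
  {M : CoxeterMatrix I} {cs : CoxeterSystem M W} {A : I → I → ℤ} {h : IsCartan M A} {p : ℕ} {T : Subgroup Y}
  {n : I → Y} {X : (I → ℤ) → Subgroup Y} {R : RGD cs h p T n X}

theorem wst_le_three {A' : I → I → ℤ} {h' : IsCartan M A'} {g : I → Y} (C : Cor R h' 0 g)
    (hd : ∀ y : St.Fm I, ∃ β, ((3 : ℕ) : ℤ) • y = St.wt A' β) {lam : ↥T →* ℂˣ} {k : ℕ} (hk : ∀ t, lam t ^ 2 ^ k = 1) :
    Wst R lam ≤ Rg R lam := fun w hw => by
  have C' := C.mono (dvd_zero (2 ^ k))
  have h1 := C'.pow_mem (pow_pos two_pos k) hk hw hd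
  have h2 := C'.pow_mem_self (pow_pos two_pos k) hk hw
  have hc : Nat.Coprime 3 (2 ^ k) := Nat.Coprime.pow_right k (by norm_num)
  have h3 : w = (w ^ 3) ^ Nat.gcdA 3 (2 ^ k) * (w ^ 2 ^ k) ^ Nat.gcdB 3 (2 ^ k) := by
    rw [← zpow_natCast, ← zpow_natCast, ← zpow_mul, ← zpow_mul, ← zpow_add, ← Nat.gcd_eq_gcd_ab, hc.gcd_eq_one]
    simp
  rw [h3]
  exact mul_mem (zpow_mem h1 _) (zpow_mem h2 _)

/-- the action of a node on the values -/
def act {B : Type} [AddCommGroup B] (c : I → I → ℤ) (i : I) (v : I → B) : I → B := fun j => v j + c i j • v i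

variable (R) in
/-- elements of the torus with the action of the `n i` -/
structure Gn (c : I → I → ℤ) (g : I → Y) : Prop where
  comm : ∀ a ∈ T, ∀ b ∈ T, a * b = b * a
  mem : ∀ i, g i ∈ T
  conj : ∀ i j, n i * g j * (n i)⁻¹ = g j * g i ^ c i j
  node : ∀ i (mu : ↥T →* ℂˣ), mu ⟨g i, mem i⟩ = 1 → zet R i mu ≠ 0

namespace Gn

variable {c : I → I → ℤ} {g : I → Y} (C : Gn R c g)

include C

/-- the values at the generators -/
def vl (mu : ↥T →* ℂˣ) : I → Additive ℂˣ := fun i => Additive.ofMul (mu ⟨g i, C.mem i⟩)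

theorem vl_word (mu : ↥T →* ℂˣ) (ω : List I) {k : Y} (hk : Rp cs R.nsys (cs.wordProd ω) k) :
    C.vl (cjl hk.mem_normalizer mu) = ω.foldr (act c) (C.vl mu) := by
  induction ω generalizing k with
  | nil =>
    rw [wordProd_nil] at hk
    funext j
    refine congrArg (fun t => Additive.ofMul (mu t)) (Subtype.ext ?_)
    show k⁻¹ * g j * k = g j
    rw [mul_assoc, C.comm _ (C.mem j) _ hk.mem_of_one, inv_mul_cancel_left]
  | cons i ω ih =>
    have hni := rp_simple cs R.nsys i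
    have hk' : Rp cs R.nsys (cs.wordProd ω) ((n i)⁻¹ * k) := by
      have := hni.inv.mul hk
      rwa [wordProd_cons, inv_mul_cancel_left] at this
    rw [List.foldr_cons, ← ih hk']
    funext j
    show Additive.ofMul _ = Additive.ofMul _ + c i j • Additive.ofMul _
    rw [← ofMul_zpow, ← ofMul_mul, ← map_zpow, ← map_mul]
    refine congrArg (fun t => Additive.ofMul (mu t)) (Subtype.ext ?_)
    show k⁻¹ * g j * k = ((n i)⁻¹ * k)⁻¹ * (g j * g i ^ c i j) * ((n i)⁻¹ * k)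
    have h1 := C.comm _ (R.sq_mem_T i) _ (C.mem j)
    rw [← C.conj]
    calc k⁻¹ * g j * k = k⁻¹ * (g j * (n i * n i) * (n i * n i)⁻¹) * k := by group
      _ = _ := by rw [← h1]; group

theorem vl_fix {mu : ↥T →* ℂˣ} {ω : List I} (hw : cs.wordProd ω ∈ Wst R mu) :
    ω.foldr (act c) (C.vl mu) = C.vl mu := by
  obtain ⟨k, hk, h1⟩ := hw
  rw [← C.vl_word mu ω hk, (cjl_eq_iff R hk).2 h1]

/-- a reflection in the stabiliser -/
theorem zero_of_mem {mu : ↥T →* ℂˣ} {ω : List I} {i j : I} (hij : c i j = 1)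
    (hw : cs.wordProd (ω.reverse ++ i :: ω) ∈ Wst R mu) : ω.foldr (act c) (C.vl mu) i = 0 := by
  obtain ⟨k, hk⟩ := exists_rp cs R.nsys (cs.wordProd ω)
  rw [wordProd_append, wordProd_reverse, wordProd_cons, ← mul_assoc] at hw
  have h1 := mem_Wst_cjl R hk hw
  rw [← wordProd_singleton] at h1
  have h2 := congrFun (C.vl_fix h1) j
  rw [C.vl_word mu ω hk, List.foldr_cons, List.foldr_nil, act, hij, one_smul] at h2
  exact add_eq_left.1 h2

/-- a good reflection -/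
theorem mem_of_zero {mu : ↥T →* ℂˣ} {ω : List I} {i : I} (h0 : ω.foldr (act c) (C.vl mu) i = 0) :
    (cs.wordProd ω)⁻¹ * cs.simple i * cs.wordProd ω ∈ Rg R mu := by
  obtain ⟨k, hk⟩ := exists_rp cs R.nsys (cs.wordProd ω)
  rw [← C.vl_word mu ω hk] at h0
  exact mem_Rg R hk (C.node i _ h0)

end Gn

end gen

section tw

variable {B : Type} [AddCommGroup B] {q : ℕ}

theorem act0 (a b x y : B) : act (twc q) 0 ![a, b, x, y] = ![-a, b + a, x, y] := by
  funext j
  fin_cases j <;> simp [act, twc]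
  abel

theorem act1 (a b x y : B) : act (twc q) 1 ![a, b, x, y] = ![a + b, -b, x + b, y] := by
  funext j
  fin_cases j <;> simp [act, twc]
  abel

theorem act2 (a b x y : B) : act (twc q) 2 ![a, b, x, y] = ![a, b + ((q : ℤ) + 1) • x, -x, y + x] := by
  funext j
  fin_cases j <;> simp [act, twc]
  abel

theorem act3 (a b x y : B) : act (twc q) 3 ![a, b, x, y] = ![a, b, x + y, -y] := by
  funext j
  fin_cases j <;> simp [act, twc]
  abel

/-- the values which occur -/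
def Sg (q : ℕ) (v : Fin 4 → B) : Prop := ∃ x y, v = ![0, 0, x, y] ∧ ((q : ℤ) + 1) • x = 0 ∧ ((q : ℤ) + 1) • y = 0

theorem Sg.word {v : Fin 4 → B} (hv : Sg q v) (ω : List (Fin 4)) : Sg q (ω.foldr (act (twc q)) v) := by
  induction ω with
  | nil => exact hv
  | cons i ω ih =>
    obtain ⟨x, y, e, hx, hy⟩ := ih
    rw [List.foldr_cons, e]
    fin_cases i
    · exact ⟨x, y, (act0 0 0 x y).trans (by simp), hx, hy⟩
    · exact ⟨x, y, (act1 0 0 x y).trans (by simp), hx, hy⟩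
    · exact ⟨-x, y + x, (act2 0 0 x y).trans (by rw [hx, add_zero]), by rw [smul_neg, hx, neg_zero],
        by rw [smul_add, hx, hy, add_zero]⟩
    · exact ⟨x + y, -y, act3 0 0 x y, by rw [smul_add, hx, hy, add_zero], by rw [smul_neg, hy, neg_zero]⟩

/-- the words of four orthogonal short roots -/
def w4 : List (List (Fin 4)) := [[], [1], [1, 0], [1, 0, 3, 2, 1, 2, 3]]

/-- the words of `⟨s₂, s₃⟩` -/
def w6 : List (List (Fin 4)) := [[], [2], [3], [2, 3], [3, 2], [2, 3, 2]]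

theorem w4_comm : ∀ a ∈ w4, ∀ b ∈ w4, ∀ j,
    scw (-Nodes.RGDTwE6.A) ((a.reverse ++ 2 :: a) ++ (b.reverse ++ 2 :: b)) (sr j) =
      scw (-Nodes.RGDTwE6.A) ((b.reverse ++ 2 :: b) ++ (a.reverse ++ 2 :: a)) (sr j) := by decide +kernel

theorem w6_mul : ∀ a ∈ w6, ∀ i ∈ ([2, 3] : List (Fin 4)), ∃ b ∈ w6, ∀ j,
    scw (-Nodes.RGDTwE6.A) (a ++ [i]) (sr j) = scw (-Nodes.RGDTwE6.A) b (sr j) := by decide +kernel

variable {W Y : Type} [Group W] [Finite W] [Group Y] [Finite Y] {cs : CoxeterSystem CoxeterMatrix.F₄ W}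

omit [Finite W] in
theorem exists_w6 (w : W) : ∃ a ∈ w6, w * (cs.wordProd a)⁻¹ ∈ Subgroup.normalClosure {cs.simple 0, cs.simple 1} := by
  induction w using cs.simple_induction_right with
  | one => exact ⟨[], by simp [w6], by simp⟩
  | mul_simple_right w i ih =>
    obtain ⟨a, ha, h1⟩ := ih
    by_cases hi : i ∈ ([2, 3] : List (Fin 4))
    · obtain ⟨b, hb, h2⟩ := w6_mul a ha i hi
      have h3 := word_eq cs Nodes.RGDTwE6.isCartan h2
      rw [wordProd_append, wordProd_singleton] at h3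
      refine ⟨b, hb, ?_⟩
      rw [← h3]
      convert h1 using 1
      group
    · refine ⟨a, ha, ?_⟩
      have h2 : cs.simple i ∈ Subgroup.normalClosure {cs.simple 0, cs.simple 1} :=
        Subgroup.subset_normalClosure (by fin_cases i <;> simp at hi ⊢)
      have h3 := mul_mem h1 ((Subgroup.normalClosure_normal).conj_mem _ h2 (cs.wordProd a))
      convert h3 using 1
      group

variable {p : ℕ} {T : Subgroup Y} {n : Fin 4 → Y} {X : (Fin 4 → ℤ) → Subgroup Y}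
  {R : RGD cs Nodes.RGDTwE6.isCartan p T n X} {g : Fin 4 → Y}

/-- the values of a character with a stabiliser of odd index -/
theorem sg_of_odd (C : Gn R (twc q) g) (hq : 1 ≤ q) (h3 : g 3 ^ (q ^ 2 - 1) = 1) {lam : ↥T →* ℂˣ}
    (hl : Odd (Wst R lam).index) : Sg q (C.vl lam) := by
  obtain ⟨w, k, hk, hS⟩ := exists_conj R hl (S := {r | ∃ a ∈ w4, r = cs.wordProd (a.reverse ++ 2 :: a)}) (by
    rintro _ ⟨a, -, rfl⟩
    rw [wordProd_append, wordProd_reverse, wordProd_cons]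
    calc _ = (cs.wordProd a)⁻¹ * (cs.simple 2 * cs.simple 2) * cs.wordProd a := by group
      _ = 1 := by rw [cs.simple_mul_simple_self]; group) (by
    rintro _ ⟨a, ha, rfl⟩ _ ⟨b, hb, rfl⟩
    rw [← wordProd_append, ← wordProd_append]
    exact word_eq cs Nodes.RGDTwE6.isCartan (w4_comm a ha b hb))
  set mu := cjl hk.mem_normalizer lam with hmu
  have h1 : ∀ a ∈ w4, a.foldr (act (twc q)) (C.vl mu) 2 = 0 := fun a ha =>
    C.zero_of_mem (j := 3) rfl (hS _ ⟨a, ha, rfl⟩)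
  obtain ⟨a, b, x, y, e⟩ : ∃ a b x y, C.vl mu = ![a, b, x, y] :=
    ⟨C.vl mu 0, C.vl mu 1, C.vl mu 2, C.vl mu 3, by funext j; fin_cases j <;> rfl⟩
  have hy : ((q : ℤ) ^ 2 - 1) • y = 0 := by
    have e1 : y = Additive.ofMul (mu ⟨g 3, C.mem 3⟩) := (congrFun e 3).symm
    have e2 : (q : ℤ) ^ 2 - 1 = ((q ^ 2 - 1 : ℕ) : ℤ) := by
      rw [Nat.cast_sub (Nat.one_le_pow _ _ hq)]
      simp
    rw [e1, e2, natCast_zsmul, ← ofMul_pow, ← map_pow, show (⟨g 3, C.mem 3⟩ : ↥T) ^ (q ^ 2 - 1) = 1 from Subtype.ext h3,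
      map_one, ofMul_one]
  have e0 := h1 [] (by simp [w4])
  have e1 := h1 [1] (by simp [w4])
  have e2 := h1 [1, 0] (by simp [w4])
  have e3 := h1 [1, 0, 3, 2, 1, 2, 3] (by simp [w4])
  simp only [e, List.foldr_cons, List.foldr_nil, act0, act1, act2, act3] at e0 e1 e2 e3
  simp only [Matrix.cons_val] at e0 e1 e2 e3
  subst e0
  obtain rfl : b = 0 := by rwa [zero_add] at e1
  obtain rfl : a = 0 := by rwa [zero_add, zero_add] at e2
  have h2 : Sg q (C.vl mu) := ⟨0, y, e, smul_zero _, by linear_combination (norm := module) e3 - hy⟩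
  obtain ⟨ω, hω⟩ := cs.wordProd_surjective w⁻¹
  have hk' : Rp cs R.nsys (cs.wordProd ω) k⁻¹ := by rw [hω]; exact hk.inv
  have h4 : cjl hk'.mem_normalizer mu = lam := (cjl_eq_iff R hk').2 fun t ht ht' => by
    rw [hmu, cjl_apply _ _ ht' (conj_T' R hk ht')]
    congr 2
    group
  rw [← h4, C.vl_word mu ω hk']
  exact h2.word ω

/-- **`²E₆`** -/
theorem wst_le_tw (C : Gn R (twc q) g) (hq : 1 ≤ q) (h3 : g 3 ^ (q ^ 2 - 1) = 1) {lam : ↥T →* ℂˣ} {k : ℕ}
    (hk : ∀ t, lam t ^ 2 ^ k = 1) (hl : Odd (Wst R lam).index) : Wst R lam ≤ Rg R lam := by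
  have hs := sg_of_odd C hq h3 hl
  have hN : Subgroup.normalClosure {cs.simple 0, cs.simple 1} ≤ Rg R lam := by
    refine (Subgroup.closure_le _).2 fun r hr => ?_
    obtain ⟨a, ha, hc⟩ := Group.mem_conjugatesOfSet_iff.1 hr
    obtain ⟨v, rfl⟩ := isConj_iff.1 hc
    obtain ⟨ω, hω⟩ := cs.wordProd_surjective v⁻¹
    obtain ⟨x, y, e, -, -⟩ := hs.word ω
    have h1 : ∀ i, ω.foldr (act (twc q)) (C.vl lam) i = 0 → v * cs.simple i * v⁻¹ ∈ Rg R lam := fun i hi => by
      have := C.mem_of_zero hi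
      rwa [hω, inv_inv] at this
    rcases ha with rfl | rfl
    · exact h1 0 (by rw [e]; rfl)
    · exact h1 1 (by rw [e]; rfl)
  intro w hw
  obtain ⟨a, ha, h1⟩ := exists_w6 (cs := cs) w
  have h2 := hN h1
  suffices h4 : cs.wordProd a ∈ Rg R lam by simpa using mul_mem h2 h4
  have h5 : cs.wordProd a ∈ Wst R lam := by simpa using mul_mem (inv_mem (Rg_le_Wst R C.comm lam h2)) hw
  have h6 := C.vl_fix h5
  obtain ⟨x, y, e, hx, hy⟩ := hs
  have g0 : ∀ i, C.vl lam i = 0 → cs.simple i ∈ Rg R lam := fun i hi => by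
    simpa using C.mem_of_zero (ω := []) hi
  have g2 : x = 0 → cs.simple 2 ∈ Rg R lam := fun h0 => g0 2 (by rw [e]; exact h0)
  have g3 : y = 0 → cs.simple 3 ∈ Rg R lam := fun h0 => g0 3 (by rw [e]; exact h0)
  have three : x + x + x = 0 → x = 0 := fun h0 => by
    have e1 : x = Additive.ofMul (lam ⟨g 2, C.mem 2⟩) := (congrFun e 2).symm
    have e2 : (2 ^ k) • x = 0 := by rw [e1, ← ofMul_pow, hk, ofMul_one]
    have e3 : 3 • x = 0 := by rw [← h0]; abel
    have e4 := Nat.dvd_gcd (addOrderOf_dvd_of_nsmul_eq_zero e3) (addOrderOf_dvd_of_nsmul_eq_zero e2)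
    rw [(Nat.Coprime.pow_right k (by norm_num : Nat.Coprime 3 2)).gcd_eq_one, Nat.dvd_one] at e4
    exact AddMonoid.addOrderOf_eq_one_iff.1 e4
  simp only [w6, List.mem_cons, List.not_mem_nil, or_false] at ha
  have h7 := congrFun h6 2
  have h8 := congrFun h6 3
  clear h6
  rcases ha with rfl | rfl | rfl | rfl | rfl | rfl <;>
    simp only [e, List.foldr_cons, List.foldr_nil, act2, act3, Matrix.cons_val] at h7 h8 <;>
    simp only [wordProd_cons, wordProd_nil, mul_one]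
  · exact one_mem _
  · exact g2 (add_eq_left.1 h8)
  · exact g3 (add_eq_left.1 h7)
  · have h9 : x = 0 := three (by linear_combination (norm := module) h8 - h7)
    exact mul_mem (g2 h9) (g3 (by linear_combination (norm := module) h9 - h8))
  · have h9 : x = 0 := three (by linear_combination (norm := module) -h8 - (2 : ℤ) • h7)
    exact mul_mem (g3 (by linear_combination (norm := module) h9 + h7)) (g2 h9)
  · have h9 := C.mem_of_zero (mu := lam) (ω := [2]) (i := 3) (by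
      simp only [e, List.foldr_cons, List.foldr_nil, act2, Matrix.cons_val]
      linear_combination (norm := module) -h7)
    rwa [wordProd_singleton, cs.inv_simple, mul_assoc] at h9

end tw

/-! ### the families -/

open Cfsg.Lie Cfsg.Agent.ChevalleyStructure Cfsg.Agent.ChevalleyStructure.CoxeterGeomTypes in
theorem fg_e6 {S : Type} [Group S] [Finite S] (h : ChevO Lie.chevE6 S) : FG S := by
  obtain ⟨F, _, _, hF, ⟨e⟩⟩ := h
  obtain ⟨p, _, -, -, h2⟩ := PX.exists_char F hF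
  have hW : Finite CoxeterMatrix.E₆.Group := Nodes.RGDChev.finite_W hp6 CoxeterMatrix.E₆.toCoxeterSystem
  have S := PX.inS_chev hp6 F p h2 (by decide +kernel) CoxeterMatrix.E₆.toCoxeterSystem
  obtain ⟨γ, hγ⟩ := IsCyclic.exists_generator (α := Fˣ)
  refine Odd.FG.congr e (Odd.fg_of_le S.inp.rgd S.inp.top S.inp.comm S.inp.nofix fun lam hl _ => ?_)
  obtain ⟨k, hk⟩ := hl
  exact wst_le_three (PX.cor_group hp6 S hγ) (exists_of_inv 3 ![![4, 3, 5, 6, 4, 2], ![3, 6, 6, 9, 6, 3],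
    ![5, 6, 10, 12, 8, 4], ![6, 9, 12, 18, 12, 6], ![4, 6, 8, 12, 10, 5], ![2, 3, 4, 6, 5, 4]] (by decide +kernel)) hk

theorem fg_tw {S : Type} [Group S] [Finite S] (h : TwE6O S) : FG S := by
  obtain ⟨F, _, _, q, hF, hq, hc, ⟨e⟩⟩ := h
  obtain ⟨p, _, -, -, h2⟩ := PX.exists_char F hF
  obtain ⟨φ, hφ, hqq⟩ := ChevalleyStructure.TwE6Basic.exists_frob hq hc
  have hW : Finite CoxeterMatrix.F₄.Group :=
    Nodes.RGDFold.finite_W (hp := hp6) CoxeterMatrix.F₄.toCoxeterSystem Nodes.RGDTwE6.isCartan Nodes.RGDTwE6.foldData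
  let _ := k4Field φ
  obtain ⟨Φ, ω, S, h1, h3, h4⟩ := tw_nodes hq hc hφ hqq p h2
  have C : Gn S.inp.rgd (twc q) fun i => Φ i (H310.OQ.dd (ω i)) := ⟨S.inp.comm, fun i => S.d i _, h4, fun i mu hmu => by
    refine node_of_zpowers S.inp.rgd (S.d i _) (fun x hx hx1 => ?_) hmu
    obtain ⟨c, hc⟩ := S.tx_mem' i hx hx1
    obtain ⟨m, rfl⟩ := h1 i c
    rw [hc, map_zpow, map_zpow]
    exact zpow_mem (Subgroup.mem_zpowers _) m⟩
  refine Odd.FG.congr e (Odd.fg_of_le S.inp.rgd S.inp.top S.inp.comm S.inp.nofix fun lam hl hl' => ?_)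
  obtain ⟨k, hk⟩ := hl
  refine wst_le_tw C hq.pos ?_ hk hl'
  have h5 : orderOf (ω 3) = q ^ 2 - 1 := h3 3
  rw [← map_pow, ← map_pow, ← h5, pow_orderOf_eq_one, map_one, map_one]

theorem fg_g2 {S : Type} [Group S] (h : ChevO Lie.chevG2 S) : FG S := (oddQ_g2 h).fg

theorem fg_f4 {S : Type} [Group S] (h : ChevO Lie.chevF4 S) : FG S := (oddQ_f4 h).fg

theorem fg_e7 {S : Type} [Group S] (h : ChevO Lie.chevE7 S) : FG S := (oddQ_e7 h).fg

theorem fg_e8 {S : Type} [Group S] (h : ChevO Lie.chevE8 S) : FG S := (oddQ_e8 h).fg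

theorem fg_d4 {S : Type} [Group S] (h : TwD4O S) : FG S := (oddQ_d4 h).fg

end Cfsg.Agent.GAL.Ex
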